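import Cfsg.Agent.Omega.NO3S.CaseLW.LamQ.Frm
import Cfsg.Agent.Omega.OM.SWT.LowLev

/-!
# `LowW` (hence `LowC`) from one best offender: THEOREM LAMBDA for `q ≥ 4`, without `M`, without (Om)

Over `h : MulL S P B ZJ L W Z C A q`, `4 ≤ q`, `H` any subgroup which centralises some `c ∈ Z_J` of full support
(helper981's `LowE`, #26392; helper969 #26497).

* `exists_full_of` : if `D` meets every `Z l` then some `c ∈ D` has full support;
* `OffA h H` : the weird `Y ≤ H` over `T ≥ B` which move `Ω₁Z(T)` have a best offender on `⟨V_P^Y⟩` outside `O₂(Y)`;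
* `lowW_of` : `OffA` gives `SWT.LowW`; `lowC_of` : and `SWT.LowC`; `lowE_of` : for all `D` which meet every `Z l`.

The hypothesis `hno` is the conclusion of `LamQ/Main.lean` (no `InQ`), as in `lamHQ_of`.
-/

set_option autoImplicit false
set_option linter.unusedSectionVars false

namespace Cfsg.Agent.Omega.NO3S.CaseLW.LamQ.LowH

open Subgroup Cfsg Cfsg.Agent.ZN.ChoiceBase Cfsg.Agent.ZN.ChoiceSit
open Cfsg.Agent.ZN (jj zj bau zc zl o2)
open Cfsg.Agent.MinSimple.MinParabolic (IsMinPar)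
open Cfsg.Agent.Omega.OM.Lev.Uni (FrL)
open Cfsg.Agent.Omega.NO1.BestOff (Best)
open Cfsg.Agent.Omega.NO3S.Level
open Cfsg.Agent.Omega.OM.SwapK (VF)
open Cfsg.Agent.Omega.Node.MulX (MulL)
open Cfsg.Agent.Omega.OM.SWT (nL LowW LowC)

universe u

variable {G : Type u} [Group G] [Finite G]

/-- a subgroup which meets every `Z i` contains an element of full support -/
theorem exists_full_frame {ι : Type*} [Finite ι] {B Q V X ZJ : Subgroup G} {L W Z C A : ι → Subgroup G} {q : ℕ}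
    (h : FrL B Q V X ZJ L W Z C A q) {D : Subgroup G} (hD : ∀ l, ∃ z ∈ Z l, z ≠ 1 ∧ z ∈ D) :
    ∃ c ∈ D, ∀ i, c ∉ C i := by
  classical
  cases nonempty_fintype ι
  set 𝒞 : Set (Finset ι) := {s | ∃ z ∈ D, ∀ i ∈ s, z ∉ C i} with h𝒞
  have hne : 𝒞.Nonempty := ⟨∅, 1, one_mem _, fun i hi => absurd hi (Finset.notMem_empty i)⟩
  obtain ⟨s, ⟨z, hz, hzs⟩, hmax⟩ := Set.exists_max_image 𝒞 Finset.card (Set.toFinite _) hne
  refine ⟨z, hz, fun i₀ hi₀ => ?_⟩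
  obtain ⟨y, hy, hy1, hyD⟩ := hD i₀
  have hyW : y ∈ W i₀ := (h.blk i₀).ZV hy
  have hi₀s : i₀ ∉ s := fun h1 => hzs i₀ h1 hi₀
  have hyC : ∀ i, i ≠ i₀ → y ∈ C i := fun i hi => h.WjC i i₀ hi hyW
  have hy0 : y ∉ C i₀ := fun h1 => hy1 (by
    have h2 : y ∈ W i₀ ⊓ C i₀ := ⟨hyW, h1⟩
    rw [h.dir] at h2
    exact Subgroup.mem_bot.1 h2)
  have hmem : insert i₀ s ∈ 𝒞 := by
    refine ⟨z * y, mul_mem hz hyD, fun i hi => ?_⟩
    rcases Finset.mem_insert.1 hi with rfl | hi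
    · rw [mul_mem_cancel_left hi₀]
      exact hy0
    · have h1 : y ∈ C i := hyC i fun e => hi₀s (e ▸ hi)
      rw [mul_mem_cancel_right h1]
      exact hzs i hi
  have h1 := hmax _ hmem
  rw [Finset.card_insert_of_notMem hi₀s] at h1
  omega

variable {S : Sylow 2 G} {P B ZJ : Subgroup G} {k : ℕ} {L W Z C A : Fin k → Subgroup G} {q : ℕ}

theorem exists_full_of (h : MulL S P B ZJ L W Z C A q) {D : Subgroup G} (hD : ∀ l, ∃ z ∈ Z l, z ≠ 1 ∧ z ∈ D) :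
    ∃ c ∈ D, ∀ i, c ∉ C i := exists_full_frame h.fr hD

/-- the weird parabolics `Y ≤ H` over `T ≥ B` which move `Ω₁Z(T)` have a best offender on `⟨V_P^Y⟩` outside `O₂(Y)` -/
def OffA (_h : CaseL S P) (H : Subgroup G) : Prop :=
  ∀ T Y : Subgroup G, Syl T Y → OM.SwapT.BT (S : Subgroup G) (o2 P) ≤ T → IsMinPar T Y →
    Y ⊓ centralizer (o2 Y : Set G) ≤ o2 Y → Y ≤ H → lim (S : Subgroup G) ≤ o2 Y → ¬ o2 P ≤ o2 Y →
    ¬ Y ≤ centralizer (zc T : Set G) → ∃ A, A ≤ T ∧ Best (VF S P Y) A ∧ ¬ A ≤ o2 Y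

/-- **`LowW` from one best offender** -/
theorem lowW_of (h : MulL S P B ZJ L W Z C A q) (hq : 4 ≤ q)
    (hno : ∀ (T Y U : Subgroup G) (AA : Set (Subgroup G)) (c : G), ¬ InQ S P B ZJ L W Z C A q T Y U AA c)
    {H : Subgroup G} {c : G} (hc : c ∈ ZJ) (hcf : ∀ i, c ∉ C i) (hH : H ≤ centralizer ({c} : Set G))
    (ho : OffA h.cl H) : LowW h.cl H := by
  intro T Y hT hB hP hch hYH hl hK
  by_contra hZ
  have hB' : B ≤ T := by
    rw [h.eB, h.eZ]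
    exact hB
  exact hno T Y _ _ c (inQ_of h hq hc hcf hT hB' hP (hYH.trans hH) hch hZ hl (ho T Y hT hB hP hch hYH hl hK hZ))

/-- **`LowE` from `OffA`** -/
theorem lowE_of (h : MulL S P B ZJ L W Z C A q) (hq : 4 ≤ q)
    (hno : ∀ (T Y U : Subgroup G) (AA : Set (Subgroup G)) (c : G), ¬ InQ S P B ZJ L W Z C A q T Y U AA c)
    (ho : ∀ D : Subgroup G, D ≤ ZJ → (∀ l, ∃ z ∈ Z l, z ≠ 1 ∧ z ∈ D) → OffA h.cl (centralizer (D : Set G))) :
    ∀ D : Subgroup G, D ≤ ZJ → (∀ l, ∃ z ∈ Z l, z ≠ 1 ∧ z ∈ D) → LowW h.cl (centralizer (D : Set G)) := by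
  intro D hD hl
  obtain ⟨c, hc, hcf⟩ := exists_full_of h hl
  exact lowW_of h hq hno (hD hc) hcf (centralizer_le (Set.singleton_subset_iff.2 hc)) (ho D hD hl)

end Cfsg.Agent.Omega.NO3S.CaseLW.LamQ.LowH
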