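import Cfsg.Agent.Omega.OM.Lev.GLev
import Cfsg.Agent.Omega.OM.Lev.Low.Data

/-!
# THEOREM LAMBDA (helper417 #24622) for `q ≥ 4`: the interface

`GE T H X AA`, `XX X AA = C_X(⟨AA⟩)`.

* `Tp H X AA A W Z q` : `A ∈ AA` acts on `W ≤ Y0` as a full root group with commutator group `Z`, `|Z| = q ≥ 4`;
* `YX T H X AA N c E q` : the blocks of `H` on `C_X(⟨AA⟩)`: `YB T C_X(⟨AA⟩) N c`; `top`, `cen`; `typ` : the `Z` of a `Tp`
  is one of the `E l`, `E l ∩ N l = 1`, `E l ≤ N m` for `m ≠ l`.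
-/

set_option autoImplicit false

namespace Cfsg.Agent.Omega.NO3S.CaseLW.LamQ

open Subgroup Cfsg Cfsg.Agent.ZN Cfsg.Agent.ZN.ChoiceBase
open Cfsg.Agent.Omega.OM.GLev (GE Y0)
open Cfsg.Agent.Omega.OM.Lev.Low (YB)

universe u

variable {G : Type u} [Group G]

/-- `C_X(⟨AA⟩)` -/
def XX (X : Subgroup G) (AA : Set (Subgroup G)) : Subgroup G := X ⊓ centralizer ((sSup AA : Subgroup G) : Set G)

theorem mem_XX {X : Subgroup G} {AA : Set (Subgroup G)} {x : G} :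
    x ∈ XX X AA ↔ x ∈ X ∧ ∀ A ∈ AA, ∀ a ∈ A, a * x = x * a := by
  rw [XX, mem_inf]
  refine and_congr_right fun _ => ⟨fun h A hA a ha => ?_, fun h => ?_⟩
  · exact mem_centralizer_iff.1 h a ((le_sSup hA : A ≤ sSup AA) ha)
  · have h1 : sSup AA ≤ centralizer ({x} : Set G) := sSup_le fun A hA a ha => by
      rw [mem_centralizer_singleton_iff]
      exact h A hA a ha
    exact mem_centralizer_iff.2 fun a ha => mem_centralizer_singleton_iff.1 (h1 ha)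

theorem XX_le (X : Subgroup G) (AA : Set (Subgroup G)) : XX X AA ≤ X := inf_le_left

/-- `A` acts on `W ≤ Y0` as a full root group with commutator group `Z`. -/
structure Tp (H X : Subgroup G) (AA : Set (Subgroup G)) (A W Z : Subgroup G) (q : ℕ) : Prop where
  WY : W ≤ Y0 H X AA
  ZW : Z ≤ W
  com : ∀ a ∈ A, ∀ w ∈ W, a * w * a⁻¹ * w⁻¹ ∈ Z
  cen : ∀ a ∈ A, ∀ z ∈ Z, a * z = z * a
  free : ∀ a ∈ A, ∀ w ∈ W, w ∉ Z → a * w = w * a → ∀ u ∈ W, a * u = u * a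
  sur : ∀ w ∈ W, w ∉ Z → ∀ z ∈ Z, ∃ a ∈ A, a * w * a⁻¹ * w⁻¹ = z
  cardW : Nat.card W = Nat.card Z * q
  cardZ : Nat.card Z = q
  four : 4 ≤ q

/-- **The blocks of `H` on `C_X(⟨AA⟩)`.** -/
structure YX (T H X : Subgroup G) (AA : Set (Subgroup G)) {Λ : Type} (N c E : Λ → Subgroup G) (q : ℕ) : Prop where
  yb : YB T (XX X AA) N c
  /-- if all `N l` contain `Ω₁(Z(T))`, then `H` centralises it -/
  top : (∀ l, zc T ≤ N l) → H ≤ centralizer (zc T : Set G)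
  /-- an element moved by the conjugates of the members of `AA` inside `C_X(⟨AA⟩)` only is in all `N l` -/
  cen : ∀ x ∈ XX X AA, (∀ A ∈ AA, ∀ a ∈ A, ∀ g ∈ H, g * a * g⁻¹ * x * (g * a * g⁻¹)⁻¹ * x⁻¹ ∈ XX X AA) →
    ∀ l, x ∈ N l
  EN : ∀ l m, l ≠ m → E l ≤ N m
  E1 : ∀ l, ∀ x ∈ E l, x ∈ N l → x = 1
  typ : ∀ A ∈ AA, ∀ W Z : Subgroup G, Tp H X AA A W Z q → ∃ l, Z = E l

end Cfsg.Agent.Omega.NO3S.CaseLW.LamQ
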