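import Cfsg.Agent.Omega.OM.Lev.Low.FrFour
import Cfsg.Agent.Omega.OM.Lev.Low.Half
import Cfsg.Agent.Omega.NO3S.CaseLW.LamFixQ
import Cfsg.Agent.Omega.NO3S.CaseLW.LamQ.Def

/-!
# THEOREM LAMBDA (helper417 #24622; helper373 #24987) for `q ≥ 4`

`FrL B Q V X₀ Z_J L W Z C A₀ q`, `B ≤ T`, `GE T H X AA`, `V ≤ X`, all members of `AA` lie in `B`, `YX T H X AA N c E q`.

* `cent_fix` : (4) (`CaseLW/LamFixQ.lean`): `Z i ≤ N l` if `W i ≰ Y0`;
* `cent_four` : `Z i ≤ N l` if all members of `AA` centralise `W i` (`YB.four`);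
* `tp` : `Tp` if `W i ≤ Y0` is moved by a member of `AA`;
* `core` : if `z ∈ Z_J` of full support is centralised by `H`, then `Z_J ≤ N l` for all `l`;
* `main` : and `H` centralises `Ω₁Z(T)`.
-/

set_option autoImplicit false
set_option linter.unusedSectionVars false

namespace Cfsg.Agent.Omega.NO3S.CaseLW.LamQ

open Subgroup Cfsg Cfsg.Agent.ZN Cfsg.Agent.ZN.ChoiceBase Cfsg.Agent.ZN.ChoiceSit
open Cfsg.Agent.Omega.OM.GLev
open Cfsg.Agent.Omega.OM.Lev.Uni (FrL fullX)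
open Cfsg.Agent.Omega.OM.Lev.Low
open Cfsg.Agent.Omega.SQ1.Bau (elem_comm elem_sq mem_sup_comm)

universe u

variable {G : Type u} [Group G] [Finite G] {ι : Type*} {Λ : Type}
  {B Q V X₀ ZJ : Subgroup G} {L W Z C A₀ : ι → Subgroup G} {T H X : Subgroup G} {AA : Set (Subgroup G)}
  {N c E : Λ → Subgroup G} {q : ℕ}

/-- the hypotheses on `T`, `H`, `X`, `AA` over the frame -/
structure Su (B Q V ZJ : Subgroup G) (T H X : Subgroup G) (AA : Set (Subgroup G)) : Prop where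
  ge : GE T H X AA
  BT : B ≤ T
  VX : V ≤ X
  AB : ∀ A ∈ AA, A ≤ B
  TQ : T ≤ normalizer (Q : Set G)
  cX : ∀ x ∈ X, (∀ y ∈ Q, y * x = x * y) → x ∈ V

section fin

variable (fr : FrL B Q V X₀ ZJ L W Z C A₀ q) (hq : 4 ≤ q) (s : Su B Q V ZJ T H X AA)
include fr hq s

theorem ZJ_XX : ZJ ≤ XX X AA := fun x hx =>
  mem_XX.2 ⟨s.VX (fr.ZJV hx), fun A hA a ha => ((fr.mem_ZJ x).1 hx).2 a (s.AB A hA ha)⟩

theorem qv : YB.QV T (XX X AA) Q (V ⊓ XX X AA) where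
  QT := fr.QB.trans s.BT
  TQ := s.TQ
  mem := by
    intro x
    constructor
    · exact fun hx => ⟨hx.2, fun y hy => fr.cQ hy hx.1⟩
    · exact fun hx => ⟨s.cX x (XX_le _ _ hx.1) hx.2, hx.1⟩
  two := s.ge.hm.syl.2.1

/-- a member of `AA` acts trivially or fully on `W i` -/
theorem full {A : Subgroup G} (hA : A ∈ AA) (i : ι) : (∀ e ∈ A, ∀ v ∈ W i, e * v = v * e) ∨
    (W i ⊓ centralizer (A : Set G) = Z i ∧ q * Nat.card ↥(A ⊓ centralizer (W i : Set G)) = Nat.card A) := by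
  rcases fullX (fr.blk i).toMd s.ge.Xc ((fr.WV i).trans s.VX) (s.AB A hA) (s.ge.fam.best A hA) with h1 | h1
  · exact Or.inl h1
  · exact Or.inr ⟨h1.2.1, h1.2.2.1⟩

/-- **`Tp`** -/
theorem tp {A : Subgroup G} (hA : A ∈ AA) {i : ι} (hY : W i ≤ Y0 H X AA)
    (hne : ¬ ∀ a ∈ A, ∀ w ∈ W i, a * w = w * a) : Tp H X AA A (W i) (Z i) q := by
  have hi := fr.blk i
  have hAB := s.AB A hA
  obtain ⟨hCA, hcard⟩ := (full fr hq s hA i).resolve_left hne
  refine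
    { WY := hY
      ZW := hi.ZV
      com := fun a ha w hw => hi.com a (hAB ha) w hw
      cen := fun a ha z hz => hi.cZ a (hAB ha) z hz
      free := fun a ha w hw hwZ e => hi.free a (hAB ha) w hw hwZ e
      sur := ?_
      cardW := hi.card
      cardZ := fr.cardZ i
      four := hq }
  intro w hw hwZ z hz
  -- `a ↦ [w, a]` is a homomorphism with kernel `C_A(W i)`
  let f : ↥A →* G :=
    { toFun := fun a => (a : G) * w * (a : G)⁻¹ * w⁻¹
      map_one' := by simp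
      map_mul' := by
        rintro ⟨a, ha⟩ ⟨b, hb⟩
        show a * b * w * (a * b)⁻¹ * w⁻¹ = a * w * a⁻¹ * w⁻¹ * (b * w * b⁻¹ * w⁻¹)
        have h1 := hi.com b (hAB hb) w hw
        have h2 := hi.cZ a (hAB ha) _ h1
        have h3 := hi.comm (hi.ZV h1) (hi.ZV (hi.com a (hAB ha) w hw))
        calc a * b * w * (a * b)⁻¹ * w⁻¹ = a * (b * w * b⁻¹ * w⁻¹) * a⁻¹ * (a * w * a⁻¹ * w⁻¹) := by group
          _ = (b * w * b⁻¹ * w⁻¹) * a * a⁻¹ * (a * w * a⁻¹ * w⁻¹) := by rw [h2]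
          _ = (b * w * b⁻¹ * w⁻¹) * (a * w * a⁻¹ * w⁻¹) := by group
          _ = _ := h3 }
  have hf : ∀ a : ↥A, f a = (a : G) * w * (a : G)⁻¹ * w⁻¹ := fun a => rfl
  have hker : f.ker = (A ⊓ centralizer (W i : Set G)).subgroupOf A := by
    ext ⟨a, ha⟩
    rw [MonoidHom.mem_ker, mem_subgroupOf, hf]
    constructor
    · intro h1
      have h2 : a * w = w * a := mul_inv_eq_iff_eq_mul.1 (mul_inv_eq_one.1 h1)
      exact ⟨ha, mem_centralizer_iff.2 fun u hu => (hi.free a (hAB ha) w hw hwZ h2 u hu).symm⟩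
    · intro h1
      have h2 := mem_centralizer_iff.1 h1.2 w hw
      show a * w * a⁻¹ * w⁻¹ = 1
      rw [← h2]; group
  have hran : f.range ≤ Z i := by
    rintro _ ⟨⟨a, ha⟩, rfl⟩
    exact hi.com a (hAB ha) w hw
  have hc1 : Nat.card f.ker = Nat.card ↥(A ⊓ centralizer (W i : Set G)) := by
    rw [hker]
    exact Nat.card_congr (subgroupOfEquivOfLe inf_le_left).toEquiv
  have hc2 := Subgroup.card_mul_index f.ker
  rw [Subgroup.index_ker, hc1, ← hcard, mul_comm] at hc2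
  have hpos : 0 < Nat.card ↥(A ⊓ centralizer (W i : Set G)) := Nat.card_pos
  have hc3 : Nat.card f.range = q := Nat.eq_of_mul_eq_mul_right hpos hc2
  have h1 : f.range = Z i := Subgroup.eq_of_le_of_card_ge hran (by rw [hc3, fr.cardZ i])
  rw [← h1] at hz
  obtain ⟨⟨a, ha⟩, e⟩ := hz
  exact ⟨a, ha, e⟩

theorem cenQ : LamFix.CenQ H X AA (LamFix.RelQ H W Z) := by
  have hsq : ∀ i, ∀ w ∈ W i, w⁻¹ = w := fun i w hw => inv_eq_of_mul_eq_one_left (by
    rw [← pow_two]; exact elem_sq (fr.blk i).el w hw)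
  refine LamFix.CenQ.of s.ge (fun j => (fr.WV j).trans s.VX) (fun j => ?_) (fun j => ?_) ?_ ?_ ?_
  · rw [(fr.blk j).card, fr.cardZ j]
  · rw [fr.cardZ j]; omega
  · intro A hA _ r hr j w hw
    exact (fr.blk j).com r (s.AB A hA hr) w hw
  · intro A hA _ r hr j w hw hwZ h1 w' hw'
    have h2 : r * w = w * r := mul_inv_eq_iff_eq_mul.1 (mul_inv_eq_one.1 h1)
    rw [(fr.blk j).free r (s.AB A hA hr) w hw hwZ h2 w' hw']; group
  · intro A hA _ r hr j hex z hz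
    obtain ⟨w, hw, hne⟩ := hex
    have hrB := s.AB A hA hr
    obtain ⟨w', hw', e⟩ := exists_comm fr hrB (fun h1 => hne (by rw [h1 w hw]; group)) hz
    refine ⟨w', hw', ?_⟩
    have h3 := (fr.blk j).comm hw' ((fr.blk j).BV hrB hw')
    rw [← e, h3]
    rw [show r * w' * r⁻¹ * w'⁻¹ = (r * w' * r⁻¹) * w'⁻¹ from rfl, hsq j w' hw']

end fin

section main

variable (fr : FrL B Q V X₀ ZJ L W Z C A₀ q) (hq : 4 ≤ q) (s : Su B Q V ZJ T H X AA)
  (y : YX T H X AA N c E q)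
include fr hq s y

/-- (4) -/
theorem cent_fix {i : ι} (hi : ¬ W i ≤ Y0 H X AA) (l : Λ) : Z i ≤ N l := by
  intro x hx
  have hxX := ZJ_XX fr hq s (fr.Z_le i hx)
  refine y.cen x hxX (fun A hA a ha g hg => ?_) l
  have h1 := LamFix.fixQ_all s.ge (cenQ fr hq s) hi hA ha hg
  have h2 : g * a * g⁻¹ * x * (g * a * g⁻¹)⁻¹ ∈ Z i := by
    rw [← h1]
    exact ⟨x, hx, rfl⟩
  exact mul_mem (ZJ_XX fr hq s (fr.Z_le i h2)) (inv_mem hxX)

/-- (c) -/
theorem cent_four [Finite Λ] {i : ι} (hi : ∀ A ∈ AA, ∀ a ∈ A, ∀ w ∈ W i, a * w = w * a) (l : Λ) : Z i ≤ N l := by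
  intro z hz
  obtain ⟨b, hb, b', hb', h1, h2, h3⟩ := exists_three fr (by omega) i
  have hWX : W i ≤ V ⊓ XX X AA := fun w hw =>
    ⟨fr.WV i hw, mem_XX.2 ⟨s.VX (fr.WV i hw), fun A hA a ha => hi A hA a ha w hw⟩⟩
  have key : ∀ b, b ∈ A₀ i → (¬ ∀ v ∈ W i, b * v = v * b) → Rt T (V ⊓ XX X AA) (Z i) b := by
    intro b hb hne
    have h4 := rt fr s.BT hb hne
    refine ⟨h4.bT, h4.cen, fun v hv => h4.com v hv.1, fun z hz => ?_⟩
    obtain ⟨w, hw, e⟩ := exists_comm fr (fr.AB i hb) hne hz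
    exact ⟨w, hWX hw, e⟩
  exact y.yb.four (qv fr hq s) (key b hb h1) (key b' hb' h2) (key _ (mul_mem hb hb') h3) hz l

/-- **The core of THEOREM LAMBDA, `q ≥ 4`.** -/
theorem core [Finite ι] [Finite Λ] {z : G} (hz : z ∈ ZJ) (hzC : ∀ i, z ∉ C i) (hzH : ∀ x ∈ H, x * z = z * x)
    (l : Λ) : ZJ ≤ N l := by
  classical
  -- the trichotomy
  have tri : ∀ i, (∀ l, Z i ≤ N l) ∨ ∃ l, Z i = E l := by
    intro i
    by_cases hY : W i ≤ Y0 H X AA
    · by_cases hW : ∀ A ∈ AA, ∀ a ∈ A, ∀ w ∈ W i, a * w = w * a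
      · exact Or.inl fun l => cent_four fr hq s y hW l
      · push Not at hW
        obtain ⟨A, hA, a, ha, w, hw, hne⟩ := hW
        exact Or.inr (y.typ A hA (W i) (Z i) (tp fr hq s hA hY fun h1 => hne (h1 a ha w hw)))
    · exact Or.inl fun l => cent_fix fr hq s y hY l
  have hzN : ∀ l, z ∈ N l := by
    refine y.cen z (ZJ_XX fr hq s hz) fun A hA a ha g hg => ?_
    have h1 := hzH (g * a * g⁻¹) (mul_mem (mul_mem hg (s.ge.TH (s.ge.fam.le A hA ha))) (inv_mem hg))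
    rw [h1]
    have e : z * (g * a * g⁻¹) * (g * a * g⁻¹)⁻¹ * z⁻¹ = 1 := by group
    rw [e]
    exact one_mem _
  have all : ∀ i, ∀ l, Z i ≤ N l := by
    intro i
    rcases tri i with h1 | ⟨l, hl⟩
    · exact h1
    exfalso
    obtain ⟨z₁, hz₁, c₁, hcC, hc₁, e⟩ := fr.split_ZJ i hz
    have h1 : c₁ ∈ N l := by
      refine mem_of_C fr (i := i) (fun j hj => ?_) hc₁ hcC
      rcases tri j with h2 | ⟨l', hl'⟩
      · exact h2 l
      · rw [hl']
        refine y.EN l' l fun e' => ?_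
        subst e'
        -- `Z j = Z i`
        have h3 : Z j = Z i := hl'.trans hl.symm
        have h4 : Z i ≤ C i := h3 ▸ ((fr.blk j).ZV).trans (fr.WjC i j (Ne.symm hj))
        have h5 : Z i = ⊥ := le_bot_iff.1 ((fr.dir i) ▸ le_inf ((fr.blk i).ZV) h4)
        have h6 := fr.cardZ i
        rw [h5, Subgroup.card_bot] at h6
        omega
    have h2 : z₁ ∈ N l := by
      have h3 := mul_mem (hzN l) (inv_mem h1)
      rwa [e, mul_inv_cancel_right] at h3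
    have h3 : z₁ = 1 := y.E1 l z₁ (hl ▸ hz₁) h2
    apply hzC i
    rw [e, h3, one_mul]
    exact hcC
  exact zj_le fr fun i => all i l

/-- **THEOREM LAMBDA, `q ≥ 4`.** -/
theorem main [Finite ι] [Finite Λ] {z : G} (hz : z ∈ ZJ) (hzC : ∀ i, z ∉ C i) (hzH : ∀ x ∈ H, x * z = z * x)
    (zT : zc T ≤ ZJ) : H ≤ centralizer (zc T : Set G) :=
  y.top fun l => zT.trans (core fr hq s y hz hzC hzH l)

end main

end Cfsg.Agent.Omega.NO3S.CaseLW.LamQ
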