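import Cfsg.Agent.Omega.NO3S.CaseLW.LamQ.Def
import Cfsg.Agent.Omega.NO3S.CaseLW.YBX

/-!
# `YX` for the symmetric type (helper417 #24622, THEOREM LAMBDA, `q ≥ 4`)

`V = ⟨Ω₁Z(T)^H⟩` a sum of even-subset modules of symmetric groups (`SymKM`): the blocks `K l` of
`CaseLW.YBX.Sym.exists_ybx` give `YX T H X AA (C(K l)) ⟨d l⟩ ⊥ q`:

* `exists_sim` : some element of a member of `AA` acts on `V` like some `t i`;
* `cen` : an element of `C_X(⟨AA⟩)` moved by the conjugates of the members inside `C_X(⟨AA⟩)` lies in all `C(K l)`;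
* `no_tp` : no member of `AA` acts on a `W ≤ Y0` as a full root group of order at least four.
-/

set_option autoImplicit false
set_option linter.unusedSectionVars false

namespace Cfsg.Agent.Omega.NO3S.CaseLW.LamQ

open Subgroup Cfsg Cfsg.Agent.ZN Cfsg.Agent.ZN.ChoiceBase Cfsg.Agent.ZN.ChoiceSit
open Cfsg.Agent.Omega.OM.GLev (GE Y0)
open Cfsg.Agent.Omega.OM.Lev.Low (YB)
open Cfsg.Agent.Omega.OM.Lev.SIn
open Cfsg.Agent.Omega.OM.Lev.SymIn
open Cfsg.Agent.Omega.OM.Lev.SymIn.SyL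
open Cfsg.Agent.Omega.SQ1.BauS (Sim)
open Cfsg.Agent.Omega.SQ1.FFSym (Gd)
open Cfsg.Agent.Omega.FFThm (SymKM)
open Cfsg.Agent.Omega.FrameFF (cv)

universe u v

namespace Sym

variable {G : Type v} [Group G] [Finite G]

section act

variable {T H Q V Jg D : Subgroup G} {AA : Set (Subgroup G)} {k n : ℕ} {o : Fin n} {e : G → Fin k → Fin n → ZMod 2}
  {ι : Type} {J : ι → Fin k} {X Y : ι → Fin n} {t r : ι → G}

/-- some element of a member acts on `V` like some `t i` -/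
theorem exists_sim (h : SyL T H Q V Jg D AA o e) (c : Ch Jg H V D o e J X Y t r) :
    ∃ i, ∃ A ∈ AA, ∃ b ∈ A, Sim V b (t i) := by
  obtain ⟨A, hA, a, ha, v, hv, hav⟩ := h.nJ
  obtain ⟨τ, hτ, hτ'⟩ := h.offD A hA a ha
  have h1 : ∃ i x, τ i x ≠ x := by
    by_contra hcon
    push Not at hcon
    have h1 : τ = 1 := by
      funext i
      ext x
      rw [hcon i x]
      rfl
    subst h1
    have h2 := h.gd_sim hτ h.gd_one v hv
    apply hav
    calc a * v = (a * v * a⁻¹) * a := by group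
      _ = v * a := by rw [h2]; group
  obtain ⟨i, x, hx⟩ := h1
  obtain ⟨-, b, hb, hb'⟩ := hτ' i x hx
  have hTr : Tr Jg H V D e i x (τ i x) := ⟨hx.symm, b, h.AJ _ hA hb, hb'⟩
  obtain ⟨l, hl, hs, -, -⟩ := c.exists_idx h hTr
  refine ⟨l, A, hA, b, hb, h.gd_sim hb' ?_⟩
  have h2 := c.tg l
  rwa [hl, hs] at h2

/-- if `a ∈ A` moves a vector modulo `D`, then a transposition in `A` moves it -/
theorem exists_swap (h : SyL T H Q V Jg D AA o e) {A : Subgroup G} (hA : A ∈ AA) {a : G} (ha : a ∈ A) {v : G}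
    (hv : v ∈ V) (hne : a * v * a⁻¹ * v⁻¹ ∉ D) :
    ∃ b ∈ A, ∃ j x y, Gd H V D e (Pi.mulSingle j (Equiv.swap x y)) b ∧ b * v ≠ v * b := by
  obtain ⟨τ, hτ, hτ'⟩ := h.offD A hA a ha
  have hav : a * v * a⁻¹ ∈ V := h.Vn a hτ.mem v hv
  have h1 : ∃ i x, e v i (τ i x) ≠ e v i x := by
    by_contra hcon
    push Not at hcon
    apply hne
    refine (h.ker _ (mul_mem hav (inv_mem hv))).1 ?_
    have h2 : e (a * v * a⁻¹) = e v := by
      funext i x
      have h3 := hτ.act v hv i ((τ i)⁻¹ x)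
      rw [Equiv.Perm.one_apply, SQ1.FFSym.perm_inv_self] at h3
      have h4 := hcon i ((τ i)⁻¹ x)
      rw [SQ1.FFSym.perm_inv_self] at h4
      rw [h3, ← h4]
    rw [h.inv_eq hv, h.mul _ hav _ hv, h2]
    funext i x
    exact CharTwo.add_self_eq_zero _
  obtain ⟨i, x, hx⟩ := h1
  have hx' : τ i x ≠ x := fun e1 => hx (by rw [e1])
  obtain ⟨-, b, hb, hb'⟩ := hτ' i x hx'
  refine ⟨b, hb, i, x, τ i x, hb', fun hcon => hx ?_⟩
  have h3 := hb'.act v hv i x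
  have h4 : b * v * b⁻¹ = v := by rw [hcon]; group
  rw [h4, Equiv.Perm.one_apply, Pi.mulSingle_eq_same, Equiv.swap_apply_left] at h3
  exact h3

end act

section blk

variable {T H Q V J Z : Subgroup G} {ι : Type} {N : ι → Subgroup G} {d t r : ι → G}

/-- **`cen`.** -/
theorem cen (h : In H T Q V J Z N d t r) {i₀ l : ι} {b₀ : G} (hb₀ : b₀ ∈ J) (hs : Sim V b₀ (t i₀)) {L : Subgroup G}
    (k : Blk H T V Z d r l L) {x : G} (hx : x ∈ Z)
    (hc : ∀ g ∈ H, g * b₀ * g⁻¹ * x * (g * b₀ * g⁻¹)⁻¹ * x⁻¹ ∈ Z) : ∀ y ∈ L, y * x = x * y := by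
  obtain ⟨s, hsT, hsd⟩ := h.trans i₀ l
  have hsH := h.TH hsT
  obtain ⟨y, hy, hym⟩ := k.mv
  have hyH := k.LH h hy
  set b := s * b₀ * s⁻¹ with hb
  have hbJ : b ∈ BB T Z := h.T_bau hsT (h.le_BB hb₀)
  -- the action of `b`
  have hact : ∀ v ∈ V, b * v * b⁻¹ = v ∨ b * v * b⁻¹ = d l * v := by
    intro v hv
    have hv' := h.Vn' hsH v hv
    have e1 : b * v * b⁻¹ = s * (b₀ * (s⁻¹ * v * s) * b₀⁻¹) * s⁻¹ := by rw [hb]; group
    rw [e1, hs _ hv']
    rcases h.t_comm i₀ _ hv' with h1 | h1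
    · left; rw [h1]; group
    · right
      rw [h1, ← hsd]
      group
  have hbQ : b ∉ QQ T Z N l := by
    intro hcon
    have h1 := h.r_N i₀ (h.dN i₀)
    have h2 := mem_centralizer_iff.1 hcon.2 _ (h.perm' hsT hsd h1)
    have h3 := hs _ (h.NV i₀ h1)
    rw [h.t_m i₀] at h3
    have h4 : s * (b₀ * (r i₀ * d i₀ * (r i₀)⁻¹) * b₀⁻¹) * s⁻¹ = s * (r i₀ * d i₀ * (r i₀)⁻¹) * s⁻¹ := by
      calc s * (b₀ * (r i₀ * d i₀ * (r i₀)⁻¹) * b₀⁻¹) * s⁻¹ = b * (s * (r i₀ * d i₀ * (r i₀)⁻¹) * s⁻¹) * b⁻¹ := by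
            rw [hb]; group
        _ = s * (r i₀ * d i₀ * (r i₀)⁻¹) * s⁻¹ := by rw [← h2]; group
    rw [h3] at h4
    apply h.d1 i₀
    have h5 := mul_left_cancel (mul_right_cancel h4)
    simpa using h5
  -- `y b y⁻¹` centralises `x`
  have hcx : y * b * y⁻¹ * x = x * (y * b * y⁻¹) := by
    have h1 := hc (y * s) (mul_mem hyH hsH)
    have e1 : y * s * b₀ * (y * s)⁻¹ = y * b * y⁻¹ := by rw [hb]; group
    rw [e1] at h1
    have hxY : y⁻¹ * x * y ∈ YY Z V := by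
      have := h.Y_norm y⁻¹ (inv_mem hyH) x (mem_sup_left hx)
      rwa [inv_inv] at this
    obtain ⟨z, hz, v, hv, he⟩ := h.mem_Y hxY
    have hzb : z * b = b * z := (mem_BB.1 hbJ).2 z hz
    have e2 : b * (y⁻¹ * x * y) * b⁻¹ * (y⁻¹ * x * y)⁻¹ = z * (b * v * b⁻¹ * v⁻¹) * z⁻¹ := by
      rw [he]
      calc b * (z * v) * b⁻¹ * (z * v)⁻¹ = (b * z) * v * b⁻¹ * v⁻¹ * z⁻¹ := by group
        _ = (z * b) * v * b⁻¹ * v⁻¹ * z⁻¹ := by rw [hzb]
        _ = _ := by group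
    have e3 : y * b * y⁻¹ * x * (y * b * y⁻¹)⁻¹ * x⁻¹ = y * (b * (y⁻¹ * x * y) * b⁻¹ * (y⁻¹ * x * y)⁻¹) * y⁻¹ := by
      group
    rcases hact v hv with h2 | h2
    · have h3 : y * b * y⁻¹ * x * (y * b * y⁻¹)⁻¹ * x⁻¹ = 1 := by
        rw [e3, e2, h2]; group
      calc y * b * y⁻¹ * x = (y * b * y⁻¹ * x * (y * b * y⁻¹)⁻¹ * x⁻¹) * (x * (y * b * y⁻¹)) := by group
        _ = _ := by rw [h3, one_mul]
    · exfalso
      have h3 : y * b * y⁻¹ * x * (y * b * y⁻¹)⁻¹ * x⁻¹ = y * d l * y⁻¹ := by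
        rw [e3, e2, h2]
        have h4 := h.ZcV z hz _ (h.dV l)
        have e4 : z * (d l * v * v⁻¹) * z⁻¹ = (z * d l) * z⁻¹ := by group
        rw [e4, h4]; group
      rw [h3] at h1
      rcases Blk.Z_inf_N h (k.L_N h hy (h.dN l)) h1 with h4 | h4
      · apply h.d1 l
        calc d l = y⁻¹ * (y * d l * y⁻¹) * y := by group
          _ = 1 := by rw [h4]; group
      · exact hym h4
  have h1 : L ≤ centralizer ({x} : Set G) := by
    refine k.gen_left h hy hym hbJ hbQ (fun a ha => ?_) ?_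
    · exact mem_centralizer_singleton_iff.2 ((mem_BB.1 ha).2 x hx).symm
    · exact mem_centralizer_singleton_iff.2 hcx
  exact fun y hy => mem_centralizer_singleton_iff.1 (h1 hy)

/-- `K l` centralises `D` -/
theorem cent_D {D : Subgroup G} (hDZ : D ≤ Z) (hDV : D ≤ V)
    (hr : ∀ i, ∀ x ∈ D, r i * x = x * r i) {l : ι} {L : Subgroup G} (k : Blk H T V Z d r l L) :
    D ≤ centralizer (L : Set G) := by
  rw [le_centralizer_iff]
  refine k.LP.trans (sup_le (sup_le (fun b hb => ?_) ?_) ?_)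
  · exact mem_centralizer_iff.2 fun x hx => (mem_BB.1 hb).2 x (hDZ hx)
  · rw [zpowers_le]
    exact mem_centralizer_iff.2 fun x hx => (hr l x hx).symm
  · exact inf_le_right.trans (centralizer_le hDV)

end blk

section main

variable {T H X : Subgroup G} {AA : Set (Subgroup G)}

/-- **`typ` does not occur.** -/
theorem no_tp (h : GE T H X AA) {D : Subgroup G} {k n : ℕ} {o : Fin n} {e : G → Fin k → Fin n → ZMod 2}
    (h0 : SyL T H (o2 H) (zl T H) (sSup AA) D AA o e)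
    (hD : ∀ A ∈ AA, ∀ a ∈ A, ∀ v ∈ zl T H, a * v * a⁻¹ * v⁻¹ ∈ D → a * v * a⁻¹ * v⁻¹ = 1)
    {A W Z : Subgroup G} {q : ℕ} (hA : A ∈ AA) (tp : Tp H X AA A W Z q) : False := by
  -- a vector outside `Z`
  have hw : ∃ w ∈ W, w ∉ Z := by
    by_contra hcon
    push Not at hcon
    have h1 := Subgroup.card_le_of_le (show W ≤ Z from hcon)
    have h2 := tp.four
    have h3 := tp.cardZ
    rw [tp.cardW, h3] at h1
    nlinarith
  obtain ⟨w₁, hw₁, hw₁Z⟩ := hw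
  have hz : ∃ z ∈ Z, z ≠ 1 := by
    by_contra hcon
    push Not at hcon
    have h1 : Z = ⊥ := (Subgroup.eq_bot_iff_forall _).2 hcon
    have h2 := tp.cardZ
    rw [h1, Subgroup.card_bot] at h2
    have := tp.four
    omega
  obtain ⟨z, hz, hz1⟩ := hz
  obtain ⟨a, ha, haz⟩ := tp.sur w₁ hw₁ hw₁Z z hz
  obtain ⟨v₁, hv₁, hv₁'⟩ := h.Y0_comm hA (tp.WY hw₁)
  obtain ⟨b, hb, j, x, y, hg, hmv⟩ := exists_swap h0 hA ha hv₁ fun hcon => hz1 (by
    rw [← haz, hv₁' a ha]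
    exact hD A hA a ha v₁ hv₁ hcon)
  -- the transposition moves every vector outside `Z`
  have hb1 : b * w₁ ≠ w₁ * b := by
    intro hcon
    apply hmv
    have h1 := hv₁' b hb
    have h2 : b * w₁ * b⁻¹ * w₁⁻¹ = 1 := by rw [hcon]; group
    rw [h2] at h1
    calc b * v₁ = (b * v₁ * b⁻¹ * v₁⁻¹) * (v₁ * b) := by group
      _ = v₁ * b := by rw [← h1, one_mul]
  have hmvW : ∀ w ∈ W, w ∉ Z → b * w * b⁻¹ * w⁻¹ = SQ1.FFSym.u H (zl T H) D e j x y := by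
    intro w hw hwZ
    obtain ⟨v, hv, hv'⟩ := h.Y0_comm hA (tp.WY hw)
    rw [hv' b hb]
    rcases h0.swap_comm hg v hv with h1 | h1
    · exfalso
      have h2 := hv' b hb
      rw [h1, mul_inv_cancel] at h2
      exact hb1 (tp.free b hb w hw hwZ (by
        calc b * w = (b * w * b⁻¹ * w⁻¹) * (w * b) := by group
          _ = w * b := by rw [h2, one_mul]) w₁ hw₁)
    · rw [h1, mul_inv_cancel_right]
  -- so `|W : Z| ≤ 2`
  have hZ2 : ∀ w ∈ W, w ∉ Z → w₁⁻¹ * w ∈ Z := by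
    intro w hw hwZ
    by_contra hcon
    have h1 := hmvW w hw hwZ
    have h2 := hmvW w₁ hw₁ hw₁Z
    have h3 : b * (w₁⁻¹ * w) = w₁⁻¹ * w * b := by
      have e1 : b * w * b⁻¹ = SQ1.FFSym.u H (zl T H) D e j x y * w := by rw [← h1]; group
      have e2 : b * w₁ * b⁻¹ = SQ1.FFSym.u H (zl T H) D e j x y * w₁ := by rw [← h2]; group
      calc b * (w₁⁻¹ * w) = (b * w₁ * b⁻¹)⁻¹ * (b * w * b⁻¹) * b := by group
        _ = _ := by rw [e1, e2]; group
    exact hb1 (tp.free b hb _ (mul_mem (inv_mem hw₁) hw) hcon h3 w₁ hw₁)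
  have hsub : (W : Set G) ⊆ (Z : Set G) ∪ (fun z => w₁ * z) '' (Z : Set G) := by
    intro w hw
    by_cases hwZ : w ∈ Z
    · exact Or.inl hwZ
    · exact Or.inr ⟨w₁⁻¹ * w, hZ2 w hw hwZ, by simp⟩
  have h1 := Set.ncard_le_ncard hsub
  have h2 := Set.ncard_union_le (Z : Set G) ((fun z => w₁ * z) '' (Z : Set G))
  have h3 := Set.ncard_image_le (f := fun z => w₁ * z) (s := (Z : Set G)) (Set.toFinite _)
  have h4 : (W : Set G).ncard = Nat.card W := rfl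
  have h5 : (Z : Set G).ncard = Nat.card Z := rfl
  have h6 := tp.cardW
  have h7 := tp.cardZ
  have h8 := tp.four
  rw [h4] at h1
  rw [h5] at h2 h3
  rw [h6, h7] at h1
  rw [h7] at h2 h3
  nlinarith

end main

end Sym

open Cfsg.Agent.Omega.NO3S.CaseLW.LamQ.Sym in
/-- **`YX` for the symmetric type**, `E = ⊥`. -/
theorem yx_sym {G : Type u} [Group G] [Finite G] {T H X : Subgroup G} {AA : Set (Subgroup G)} {k m : ℕ}
    (h : GE T H X AA) (hXT : X ≤ T) (N : SymKM T H (zl T H) (cv T H) k m) (hk : 0 < k) (hm : 1 ≤ m)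
    (hex : ∃ A ∈ AA, ¬ A ≤ o2 H) (q : ℕ) :
    ∃ (Λ : Type) (_ : Finite Λ) (N' c E : Λ → Subgroup G), YX T H X AA N' c E q := by
  have h0 := OM.Lev.Sym.syL_gen (Jg := sSup AA) h.hm hk hm N SQ1.FFOf.cv_le SQ1.FFOf.cv_norm h.fam.le
    (fun A hA hAQ => h.offM hA hAQ) hex (sSup_le h.fam.le) (OM.GSym.T_norm_AA h) (fun A hA => le_sSup hA) le_sup_left
  obtain ⟨ι, J, U, Y, t, r, c⟩ := h0.exists_ch
  obtain ⟨i, A₀, hA₀, b₀, hb₀, hs⟩ := exists_sim h0 c
  have hin := YBX.Sym.in_of h hXT i (c.main h0 Cfsg.Agent.Omega.SQ1.SymCyc.exists_pow)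
  have hp := c.permR h0
  obtain ⟨K, hK, hKc⟩ := hin.exists_blks hp
  have hfin := hin.finite_index
  have hyb := OM.Lev.Low.YSym.yb hin hK hKc
  have hJD : ∀ a ∈ sSup AA, ∀ x ∈ cv T H, a * x = x * a := by
    intro a ha x hx
    exact (mem_centralizer_iff.1 (c.EE_cent h0 (c.Jt h0 ha)) x (Or.inr hx)).symm
  have hDX : cv T H ≤ YBX.Xc X AA := fun x hx => mem_inf.2 ⟨h.VX (h0.DV hx), mem_centralizer_iff.2 fun a ha => hJD a ha x hx⟩
  refine ⟨ι, hfin, _, _, fun _ => ⊥, hyb, fun hle => ?_, fun x hx hxc l => ?_, fun _ _ _ => bot_le,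
    fun l x hx _ => mem_bot.1 hx, fun A hA W Z tp => (no_tp h h0 (fun A hA a ha v hv hd => ?_) hA tp).elim⟩
  · exact ((hK i).sup_T hin le_sup_left le_sup_right : H ≤ T ⊔ K i).trans
      (sup_le (NO3S.Level.le_centralizer_zc T) (le_centralizer_iff.1 (hle i)))
  · have h1 := cen hin ((le_sSup hA₀ : A₀ ≤ sSup AA) hb₀) hs (hK l) hx fun g hg => hxc A₀ hA₀ b₀ hb₀ g hg
    exact mem_centralizer_iff.2 fun y hy => h1 y hy
  · refine hyb.eq_one (YBX.Sym.comm_J hin ((le_sSup hA : A ≤ sSup AA) ha) hv) fun l _ => ?_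
    exact cent_D hDX h0.DV (fun i x hx => (c.rg i).cd x hx) (hK l) hd

end Cfsg.Agent.Omega.NO3S.CaseLW.LamQ
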