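import Cfsg.Agent.Omega.NO3S.CaseLW.LamQ.Frm
import Cfsg.Agent.Omega.NO3S.CaseLW.LamQ.Main
import Cfsg.Agent.Omega.NO3S.CaseLW.LamQ.Nat
import Cfsg.Agent.Omega.NO3S.CaseLW.LamQ.Sym
import Cfsg.Agent.Omega.NO3S.CaseLW.LamQ.LowH

/-!
# THEOREM LAMBDA for `q ≥ 4` (helper417 #24622, helper373 (5')): the end

* `InQ.false` : the input `InQ` is impossible (`LamQ/Main.lean` over `yx_nat`, `yx_sym`);
* **`low_off`** : `Y ≤ C_G(c)`, `c ∈ Z_J` of full support, with one best offender of `T` on `⟨V_P^Y⟩` outside `O₂(Y)`,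
  centralises `Ω₁Z(T)` (no `M`); `low_off_of` : the same for `Y ≤ C_G(D)`, `D ≤ Z_J` meeting every `Z l`;
* **`lamHQ : LamHQ K`** : weird parabolics `Y ≤ C_G(Ω₁Z(S))` over `T ≥ B` with `lim S ≤ O₂(Y)` lie in `M`
  (`Node/OmTopQM.lean`), from THEOREM QW.
-/

set_option autoImplicit false
set_option linter.unusedSectionVars false

namespace Cfsg.Agent.Omega.NO3S.CaseLW.LamQ

open Subgroup Cfsg Cfsg.Agent.ZN.ChoiceBase Cfsg.Agent.ZN.ChoiceSit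
open Cfsg.Agent.ZN (jj zj bau zc zl o2)
open Cfsg.Agent.MinSimple.MinParabolic (IsMinPar)
open Cfsg.Agent.Omega.NO1.BestOff (Best)
open Cfsg.Agent.Omega.NO3S.Level
open Cfsg.Agent.Omega.OM.SwapK (VF)
open Cfsg.Agent.Omega.Node.MulX (MulL)
open Cfsg.Agent.Omega.Frame (Cls)

universe u

/-- **THEOREM LAMBDA, `q ≥ 4`.** -/
theorem InQ.false {G : Type u} [Group G] [Finite G] {S : Sylow 2 G} {P B ZJ : Subgroup G} {k : ℕ}
    {L W Z C A : Fin k → Subgroup G} {q : ℕ} {T Y U : Subgroup G} {AA : Set (Subgroup G)} {c : G}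
    (h : InQ S P B ZJ L W Z C A q T Y U AA c) : False := by
  have s : Su B (o2 P) (zl (S : Subgroup G) P) ZJ T Y U AA := ⟨h.ge, h.BT, h.VU, h.AB, h.TQ, h.cX⟩
  obtain ⟨Λ, _, N', c', E, y⟩ : ∃ (Λ : Type) (_ : Finite Λ) (N' c' E : Λ → Subgroup G), YX T Y U AA N' c' E q := by
    rcases h.con with ⟨F, _, _, _, k', hk, ⟨N⟩⟩ | ⟨k', m, hk, hm, ⟨N⟩⟩
    · obtain ⟨N', c', E, y⟩ := yx_nat h.ge N hk h.ex q
      exact ⟨Fin k', inferInstance, N', c', E, y⟩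
    · exact yx_sym h.ge h.UT N hk (by omega) h.ex q
  exact h.mv (main h.fr h.four s y h.cZ h.cC h.cY h.zT)

/-- **THEOREM LAMBDA, `q ≥ 4`**, from one best offender, inside `C_G(c)`. -/
theorem low_off {G : Type u} [Group G] [Finite G] {S : Sylow 2 G} {P B ZJ : Subgroup G} {k : ℕ}
    {L W Z C A : Fin k → Subgroup G} {q : ℕ} {T Y : Subgroup G} {c : G} (h : MulL S P B ZJ L W Z C A q) (hq : 4 ≤ q)
    (hc : c ∈ ZJ) (hcf : ∀ i, c ∉ C i) (hT : Syl T Y) (hB : B ≤ T) (hP : IsMinPar T Y)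
    (hYc : Y ≤ centralizer ({c} : Set G)) (hch : Y ⊓ centralizer (o2 Y : Set G) ≤ o2 Y)
    (hl : lim (S : Subgroup G) ≤ o2 Y) (hoff : ∃ A, A ≤ T ∧ Best (VF S P Y) A ∧ ¬ A ≤ o2 Y) :
    Y ≤ centralizer (zc T : Set G) := by
  by_contra hZ
  exact (inQ_of h hq hc hcf hT hB hP hYc hch hZ hl hoff).false

/-- **THEOREM LAMBDA, `q ≥ 4`**, from one best offender, inside `C_G(D)`, `D ≤ Z_J` meeting every `Z l`. -/
theorem low_off_of {G : Type u} [Group G] [Finite G] {S : Sylow 2 G} {P B ZJ : Subgroup G} {k : ℕ}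
    {L W Z C A : Fin k → Subgroup G} {q : ℕ} {T Y D : Subgroup G} (h : MulL S P B ZJ L W Z C A q) (hq : 4 ≤ q)
    (hD : D ≤ ZJ) (hDl : ∀ l, ∃ z ∈ Z l, z ≠ 1 ∧ z ∈ D) (hT : Syl T Y) (hB : B ≤ T) (hP : IsMinPar T Y)
    (hYD : Y ≤ centralizer (D : Set G)) (hch : Y ⊓ centralizer (o2 Y : Set G) ≤ o2 Y)
    (hl : lim (S : Subgroup G) ≤ o2 Y) (hoff : ∃ A, A ≤ T ∧ Best (VF S P Y) A ∧ ¬ A ≤ o2 Y) :
    Y ≤ centralizer (zc T : Set G) := by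
  obtain ⟨c, hc, hcf⟩ := LowH.exists_full_of h hDl
  exact low_off h hq (hD hc) hcf hT hB hP (hYD.trans (centralizer_le (Set.singleton_subset_iff.2 hc))) hch hl hoff

/-- **`LamHQ`**, the socket of `Node/OmTopQM.lean`. -/
theorem lamHQ (K : Cls.{u}) : Node.OmTopQ.LamHQ K :=
  lamHQ_of (fun _ _ _ _ _ _ _ _ _ _ _ _ _ _ _ _ _ _ _ h => h.false) K

end Cfsg.Agent.Omega.NO3S.CaseLW.LamQ
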