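import Cfsg.Agent.Omega.NO3S.CaseLW.LamQ.ActNZ

/-!
# `LowE` and `OffE` from THEOREM L(q) over the `T` which normalise all `Z l` (helper98, helper507)

`LamQ/ActNZ.lean` with the hypothesis `∀ i, T ≤ N(Z i)` (needed by THEOREM L(q), #26406): it is automatic for
`T ≤ C_G(D)`, if `D` meets every `Z l`.

* `norm_Z` : a 2-group `T ≥ B` which centralises `D` normalises all `Z i`;
* `BestT h c` : `Y ∈ P(T)`, `B ≤ T ≤ N(Z i)` for all `i`, `Y ≤ C_G(c)`, characteristic 2, `lim S ≤ O₂(Y)`,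
  `O₂(P) ≰ O₂(Y)`, `Y ≰ N(Z_J)`: some best offender `A ≤ T` on `⟨V_P^Y⟩` is not in `O₂(Y)`;
* `bestZ_of` : `BestT` for all `c ∈ Z_J` of full support gives `BestZ h.cl (C_G(D))`;
* `lowE_of_bestT`, `offE_of_bestT`.
-/

set_option autoImplicit false
set_option linter.unusedSectionVars false

namespace Cfsg.Agent.Omega.NO3S.CaseLW.LamQ.ActNT

open Subgroup Cfsg Cfsg.Agent.ZN.ChoiceBase Cfsg.Agent.ZN.ChoiceSit
open Cfsg.Agent.ZN (jj zj bau zc zl o2)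
open Cfsg.Agent.MinSimple.MinParabolic (IsMinPar)
open Cfsg.Agent.Omega.OM.Lev.Uni (FrL)
open Cfsg.Agent.Omega.NO1.BestOff (Best)
open Cfsg.Agent.Omega.NO3S.Level
open Cfsg.Agent.Omega.OM.SwapK (VF)
open Cfsg.Agent.Omega.Node.MulX (MulL)
open Cfsg.Agent.Omega.OM.SWT (nL LowW LowC OffC)
open Cfsg.Agent.Omega.NO3S.CaseLW.QWoFr (Z_C not_mem_C)

universe u

variable {G : Type u} [Group G] [Finite G]
  {S : Sylow 2 G} {P B ZJ : Subgroup G} {k : ℕ} {L W Z C A : Fin k → Subgroup G} {q : ℕ}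

/-- **a 2-group `T ≥ B` which centralises an element `≠ 1` of `Z i` normalises `Z i`** -/
theorem norm_Z_one (h : MulL S P B ZJ L W Z C A q) {T : Subgroup G} (hT : IsPGroup 2 T) (hB : B ≤ T)
    {i : Fin k} {z : G} (hz : z ∈ Z i) (hz1 : z ≠ 1) (hc : ∀ t ∈ T, t * z = z * t) :
    T ≤ normalizer (Z i : Set G) := by
  intro t ht
  have htB : t ∈ normalizer (B : Set G) := h.lb.two_le hT hB ht
  obtain ⟨j, hj, -⟩ := (h.fr.norm_of htB (h.norm_le htB)).2 i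
  have h1 : z ∈ Z j := by
    rw [← hj]
    refine ⟨z, hz, ?_⟩
    change t * z * t⁻¹ = z
    rw [hc t ht]
    group
  have h2 : j = i := by
    by_contra hne
    exact not_mem_C h.fr h1 hz1 (Z_C h.fr hne hz)
  rw [mem_normalizer_iff_cj, hj, h2]

theorem norm_Z (h : MulL S P B ZJ L W Z C A q) {D T : Subgroup G} (hD : ∀ l, ∃ z ∈ Z l, z ≠ 1 ∧ z ∈ D)
    (hT : IsPGroup 2 T) (hB : B ≤ T) (hc : T ≤ centralizer (D : Set G)) (i : Fin k) :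
    T ≤ normalizer (Z i : Set G) := by
  obtain ⟨z, hz, hz1, hzD⟩ := hD i
  exact norm_Z_one h hT hB hz hz1 fun t ht => (mem_centralizer_iff.1 (hc ht) z hzD).symm

/-- **THEOREM L(q) and the cut, as one statement** -/
def BestT (_h : MulL S P B ZJ L W Z C A q) (c : G) : Prop :=
  ∀ T Y : Subgroup G, Syl T Y → B ≤ T → IsMinPar T Y → Y ⊓ centralizer (o2 Y : Set G) ≤ o2 Y →
    (∀ i, T ≤ normalizer (Z i : Set G)) → Y ≤ centralizer ({c} : Set G) → lim (S : Subgroup G) ≤ o2 Y →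
    ¬ o2 P ≤ o2 Y → ¬ Y ≤ normalizer (ZJ : Set G) → ∃ A, A ≤ T ∧ Best (VF S P Y) A ∧ ¬ A ≤ o2 Y

/-- **`BestZ` over `C_G(D)`, `D` meets every `Z l`** -/
theorem bestZ_of (h : MulL S P B ZJ L W Z C A q) (ho : ∀ c ∈ ZJ, (∀ i, c ∉ C i) → BestT h c)
    {D : Subgroup G} (hD : D ≤ ZJ) (hm : ∀ l, ∃ z ∈ Z l, z ≠ 1 ∧ z ∈ D) :
    ActNZ.BestZ h.cl (centralizer (D : Set G)) := by
  obtain ⟨c, hc, hcf⟩ := LowH.exists_full_of h hm
  intro T Y hT hB hP hch hYH hl hK hn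
  have e : B = OM.SwapT.BT (S : Subgroup G) (o2 P) := by rw [h.eB, h.eZ]; rfl
  have eZ : ZJ = OM.SwapT.ZT (S : Subgroup G) (o2 P) := h.eZ
  rw [← eZ] at hn
  rw [← e] at hB
  exact ho c (hD hc) hcf T Y hT hB hP hch (norm_Z h hm hT.2.1 hB (hT.1.trans hYH))
    (hYH.trans (centralizer_le (Set.singleton_subset_iff.2 hc))) hl hK hn

/-- **`LowE`** -/
theorem lowE_of_bestT (h : MulL S P B ZJ L W Z C A q) (hq : 4 ≤ q)
    (ho : ∀ c ∈ ZJ, (∀ i, c ∉ C i) → BestT h c) :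
    ∀ D : Subgroup G, D ≤ ZJ → (∀ l, ∃ z ∈ Z l, z ≠ 1 ∧ z ∈ D) → LowW h.cl (centralizer (D : Set G)) :=
  ActNZ.lowE_of_bestZ h hq fun _ hD hm => bestZ_of h ho hD hm

/-- **`OffE`** -/
theorem offE_of_bestT (h : MulL S P B ZJ L W Z C A q) (ho : ∀ c ∈ ZJ, (∀ i, c ∉ C i) → BestT h c) :
    ∀ D : Subgroup G, D ≤ ZJ → (∀ l, ∃ z ∈ Z l, z ≠ 1 ∧ z ∈ D) →
      OffC h.cl (normalizer (ZJ : Set G)) (centralizer (D : Set G)) :=
  ActNZ.offE_of_bestZ h fun _ hD hm => bestZ_of h ho hD hm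

end Cfsg.Agent.Omega.NO3S.CaseLW.LamQ.ActNT
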