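import Cfsg.Agent.Omega.NO3S.CaseLW.LamQ.LowH
import Cfsg.Agent.Omega.NO3S.CaseLW.LamQ.End

/-!
# Active weird parabolics over `MulL` do not normalise `Z_J`; `LowW` and `OffC` from one statement (`q ≥ 4`)

Over `h : MulL S P B ZJ L W Z C A q` (helper969 #26497, helper925 #26625):

* `not_norm` : `Y ∈ P(T)`, `B ≤ T`, `O₂(P) ≰ O₂(Y)`, `Y` moves `Ω₁Z(T)`: `Y ≰ N_G(Z_J)`;
* `BestZ h H` : every `Y ∈ P(T)`, `Y ≤ H`, `B ≤ T`, of characteristic 2, `lim S ≤ O₂(Y)`, `O₂(P) ≰ O₂(Y)`,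
  `Y ≰ N_G(Z_J)`, has a best offender `A ≤ T` on `⟨V_P^Y⟩`, `A ≰ O₂(Y)` (quiet or active);
* `lowW_of_bestZ`, `offC_of_bestZ` : `SWT.LowW h.cl H` and `SWT.OffC h.cl (N_G(Z_J)) H`, if `H` centralises some
  `c ∈ Z_J` of full support; `lowC_of_bestZ`;
* `lowE_of_bestZ`, `offE_of_bestZ` : for `H = C_G(D)`, `D ≤ Z_J` meets every `Z l` (helper981's `LowE`, `OffE`).
-/

set_option autoImplicit false
set_option linter.unusedSectionVars false

namespace Cfsg.Agent.Omega.NO3S.CaseLW.LamQ.ActNZ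

open Subgroup Cfsg Cfsg.Agent.ZN.ChoiceBase Cfsg.Agent.ZN.ChoiceSit
open Cfsg.Agent.ZN (jj zj bau zc zl o2)
open Cfsg.Agent.MinSimple.MinParabolic (IsMinPar)
open Cfsg.Agent.Omega.OM.Lev.Uni (FrL)
open Cfsg.Agent.Omega.NO1.BestOff (Best)
open Cfsg.Agent.Omega.NO3S.Level
open Cfsg.Agent.Omega.OM.SwapK (VF)
open Cfsg.Agent.Omega.Node.MulX (MulL)
open Cfsg.Agent.Omega.OM.SWT (nL LowW LowC OffC)

universe u

variable {G : Type u} [Group G] [Finite G]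
  {S : Sylow 2 G} {P B ZJ : Subgroup G} {k : ℕ} {L W Z C A : Fin k → Subgroup G} {q : ℕ}

/-- **an active minimal parabolic with `O₂(P) ≰ O₂(Y)` does not normalise `Z_J`** -/
theorem not_norm (h : MulL S P B ZJ L W Z C A q) {T Y : Subgroup G} (hT : Syl T Y) (hB : B ≤ T)
    (hP : IsMinPar T Y) (hK : ¬ o2 P ≤ o2 Y) (hZ : ¬ Y ≤ centralizer (zc T : Set G)) :
    ¬ Y ≤ normalizer (ZJ : Set G) := by
  intro hN
  have hn : Y ≤ normalizer ((Y ⊓ centralizer (ZJ : Set G) : Subgroup G) : Set G) := by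
    intro y hy
    rw [mem_normalizer_iff_cj, cj_inf, cj_centralizer, cj_eq_of_mem_normalizer (hN hy),
      cj_eq_of_mem_normalizer (le_normalizer hy)]
  rcases hP.sup_eq_or_inf_le hT.2.1 (syl_not_dvd hT) inf_le_left hn with h1 | h1
  · apply hZ
    have hzT : zc T ≤ ZJ := by
      have hB' : OM.SwapT.BT (S : Subgroup G) (o2 P) ≤ T := by
        have e : B = OM.SwapT.BT (S : Subgroup G) (o2 P) := by rw [h.eB, h.eZ]; rfl
        exact e ▸ hB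
      exact (Lam.zc_T_le h.cl hT.2.1 hB').trans h.eZ.ge
    rw [← h1]
    refine sup_le (inf_le_right.trans (centralizer_le ?_)) (le_centralizer_zc T)
    exact_mod_cast hzT
  · apply hK
    have h2 : B ≤ T ⊓ (Y ⊓ centralizer (ZJ : Set G)) := le_inf hB (le_inf (hB.trans hT.1) h.lb.Bc)
    exact (h.fr.QB.trans h2).trans h1

/-- every weird `Y ≤ H` over `T ≥ B` which does not normalise `Z_J` has a best offender on `⟨V_P^Y⟩` outside `O₂(Y)` -/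
def BestZ (_h : CaseL S P) (H : Subgroup G) : Prop :=
  ∀ T Y : Subgroup G, Syl T Y → OM.SwapT.BT (S : Subgroup G) (o2 P) ≤ T → IsMinPar T Y →
    Y ⊓ centralizer (o2 Y : Set G) ≤ o2 Y → Y ≤ H → lim (S : Subgroup G) ≤ o2 Y → ¬ o2 P ≤ o2 Y →
    ¬ Y ≤ normalizer (OM.SwapT.ZT (S : Subgroup G) (o2 P) : Set G) → ∃ A, A ≤ T ∧ Best (VF S P Y) A ∧ ¬ A ≤ o2 Y

theorem offA_of_bestZ (h : MulL S P B ZJ L W Z C A q) {H : Subgroup G} (ho : BestZ h.cl H) :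
    LowH.OffA h.cl H := by
  intro T Y hT hB hP hch hYH hl hK hZ
  have e : B = OM.SwapT.BT (S : Subgroup G) (o2 P) := by rw [h.eB, h.eZ]; rfl
  have eZ : ZJ = OM.SwapT.ZT (S : Subgroup G) (o2 P) := h.eZ
  have h1 := not_norm h hT (e ▸ hB) hP hK hZ
  rw [eZ] at h1
  exact ho T Y hT hB hP hch hYH hl hK h1

/-- **`LowW` from `BestZ`** -/
theorem lowW_of_bestZ (h : MulL S P B ZJ L W Z C A q) (hq : 4 ≤ q) {H : Subgroup G} {c : G} (hc : c ∈ ZJ)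
    (hcf : ∀ i, c ∉ C i) (hH : H ≤ centralizer ({c} : Set G)) (ho : BestZ h.cl H) : LowW h.cl H :=
  LowH.lowW_of h hq (fun _ _ _ _ _ hh => hh.false) hc hcf hH (offA_of_bestZ h ho)

/-- **`OffC` over `N_G(Z_J)` from `BestZ`** -/
theorem offC_of_bestZ (h : MulL S P B ZJ L W Z C A q) {H : Subgroup G} (ho : BestZ h.cl H) :
    OffC h.cl (normalizer (ZJ : Set G)) H := by
  intro T Y hY hl hK
  refine ho T Y hY.syl hY.BT hY.min hY.char2 hY.le hl hK ?_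
  have eZ : ZJ = OM.SwapT.ZT (S : Subgroup G) (o2 P) := h.eZ
  have h1 := hY.nM
  rwa [eZ] at h1

theorem lowE_of_bestZ (h : MulL S P B ZJ L W Z C A q) (hq : 4 ≤ q)
    (ho : ∀ D : Subgroup G, D ≤ ZJ → (∀ l, ∃ z ∈ Z l, z ≠ 1 ∧ z ∈ D) → BestZ h.cl (centralizer (D : Set G))) :
    ∀ D : Subgroup G, D ≤ ZJ → (∀ l, ∃ z ∈ Z l, z ≠ 1 ∧ z ∈ D) → LowW h.cl (centralizer (D : Set G)) :=
  LowH.lowE_of h hq (fun _ _ _ _ _ hh => hh.false) fun D hD hl => offA_of_bestZ h (ho D hD hl)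

theorem offE_of_bestZ (h : MulL S P B ZJ L W Z C A q)
    (ho : ∀ D : Subgroup G, D ≤ ZJ → (∀ l, ∃ z ∈ Z l, z ≠ 1 ∧ z ∈ D) → BestZ h.cl (centralizer (D : Set G))) :
    ∀ D : Subgroup G, D ≤ ZJ → (∀ l, ∃ z ∈ Z l, z ≠ 1 ∧ z ∈ D) →
      OffC h.cl (normalizer (ZJ : Set G)) (centralizer (D : Set G)) :=
  fun D hD hl => offC_of_bestZ h (ho D hD hl)

/-- `BestZ` is monotone in `H` -/
theorem BestZ.mono {h : CaseL S P} {H H' : Subgroup G} (ho : BestZ h H') (hle : H ≤ H') : BestZ h H :=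
  fun T Y hT hB hP hch hYH hl hK hn => ho T Y hT hB hP hch (hYH.trans hle) hl hK hn

/-- one vector of full support is enough -/
theorem bestZ_of_full (h : MulL S P B ZJ L W Z C A q)
    (ho : ∀ c ∈ ZJ, (∀ i, c ∉ C i) → BestZ h.cl (centralizer ({c} : Set G))) :
    ∀ D : Subgroup G, D ≤ ZJ → (∀ l, ∃ z ∈ Z l, z ≠ 1 ∧ z ∈ D) → BestZ h.cl (centralizer (D : Set G)) := by
  intro D hD hl
  obtain ⟨c, hc, hcf⟩ := LowH.exists_full_of h hl
  exact (ho c (hD hc) hcf).mono (centralizer_le (Set.singleton_subset_iff.2 hc))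

end Cfsg.Agent.Omega.NO3S.CaseLW.LamQ.ActNZ
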