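import Cfsg.Agent.Omega.FF.GlobEnd
import Cfsg.Agent.Omega.NO3S.CaseLW.LamQ.Main
import Cfsg.Agent.Omega.NO3S.CaseLW.LamQ.Nat
import Cfsg.Agent.Omega.NO3S.CaseLW.LamQ.Sym

/-!
# THEOREM LAMBDA for `q ≥ 4` over a frame `FrL` (no case (L))

* `exists_ge` : `GE T Y U (bo T U)` and the FF theorem for a minimal parabolic `Y` over `T` with a best offender of `T`
  on `U` outside `O₂(Y)`;
* `low_ge` : LAMBDA over `FrL`, `Su`;
* **`low_free`** : `FrL B Q V X₀ Z_J ..`, `B ≤ T`, `V ≤ U ≤ T`, `U` elementary abelian, normal in `Y`, `C_U(Q) ≤ V`, the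
  best offenders of `T` on `U` lie in `B`, `Y ≤ C_G(c)` for a `c ∈ Z_J` of full support: `Y` centralises `Ω₁Z(T)`.
-/

set_option autoImplicit false
set_option linter.unusedSectionVars false

namespace Cfsg.Agent.Omega.NO3S.CaseLW.LamQ

open Subgroup Cfsg Cfsg.Agent.ZN.ChoiceBase Cfsg.Agent.ZN.ChoiceSit
open Cfsg.Agent.ZN (zc zl o2)
open Cfsg.Agent.MinSimple.MinParabolic (IsMinPar)
open Cfsg.Agent.Omega.OM.GLev
open Cfsg.Agent.Omega.OM.Lev.Uni (FrL)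
open Cfsg.Agent.Omega.NO1.BestOff (Best)
open Cfsg.Agent.Omega.NO3S.OneLine (bo bo_fam elemM_mono)
open Cfsg.Agent.Omega.FFThm (OffM)
open Cfsg.Agent.Omega.SQ1.Bau (elem_comm)

universe u

variable {G : Type u} [Group G] [Finite G]

/-- **The FF theorem for `Y` over `T`**, the family of all best offenders of `T` on `U`. -/
theorem exists_ge {T Y U : Subgroup G} (hT : Syl T Y) (hP : IsMinPar T Y)
    (hch : Y ⊓ centralizer (o2 Y : Set G) ≤ o2 Y) (hZ : ¬ Y ≤ centralizer (zc T : Set G))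
    (hel : IsElementaryAbelian 2 U) (hUn : Y ≤ normalizer (U : Set G)) (hzT : zc T ≤ U)
    (hoff : ∃ A, A ≤ T ∧ Best U A ∧ ¬ A ≤ o2 Y) :
    GE T Y U (bo T U) ∧ FFThm.ConclM T Y ∧ ∃ A ∈ bo T U, ¬ A ≤ o2 Y := by
  have hzU : zl T Y ≤ U := ZN.zl_le hzT hUn
  have hQC := OM.BlkGen.inf_cent hT hP hZ
  obtain ⟨A₁, hA₁T, hb₁, hA₁O⟩ := hoff
  have hA₁ : A₁ ∈ bo T U := ⟨hA₁T, hb₁.toElemM, fun B h1 h2 => hb₁.max B h2 h1⟩
  have hoffM : OffM (zl T Y) A₁ :=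
    { toElemM := elemM_mono hb₁.toElemM hzU le_rfl
      ne := fun h1 => hA₁O ((le_inf hA₁T h1).trans hQC)
      le := (bo_fam T U).off (elem_comm hel) hzU hA₁ }
  obtain ⟨hno, hcon⟩ := FF.Glob.ffthmM G T Y hT hP hch ⟨A₁, hA₁T.trans hT.1, hoffM⟩
  exact ⟨{ hm := SQ1.FFOne.minH_of hT hP hch
           fam := bo_fam T U
           elem := hel
           norm := hUn
           VX := hzU
           QC := hQC
           noOver := hno }, hcon, A₁, hA₁, hA₁O⟩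

section free

variable {ι : Type*} [Finite ι] {B Q V X₀ ZJ : Subgroup G} {L W Z C A : ι → Subgroup G} {q : ℕ}
  {T Y U : Subgroup G}

/-- LAMBDA over `FrL`, `Su` -/
theorem low_ge {AA : Set (Subgroup G)} {c : G} (fr : FrL B Q V X₀ ZJ L W Z C A q) (hq : 4 ≤ q)
    (s : Su B Q V ZJ T Y U AA) (hUT : U ≤ T) (con : FFThm.ConclM T Y) (ex : ∃ A ∈ AA, ¬ A ≤ o2 Y) (hc : c ∈ ZJ)
    (hcf : ∀ i, c ∉ C i) (hYc : ∀ y ∈ Y, y * c = c * y) (zT : zc T ≤ ZJ) : Y ≤ centralizer (zc T : Set G) := by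
  obtain ⟨Λ, _, N', c', E, y⟩ : ∃ (Λ : Type) (_ : Finite Λ) (N' c' E : Λ → Subgroup G), YX T Y U AA N' c' E q := by
    rcases con with ⟨F, _, _, _, k', hk, ⟨N⟩⟩ | ⟨k', m, hk, hm, ⟨N⟩⟩
    · obtain ⟨N', c', E, y⟩ := yx_nat s.ge N hk ex q
      exact ⟨Fin k', inferInstance, N', c', E, y⟩
    · exact yx_sym s.ge hUT N hk (by omega) ex q
  exact main fr hq s y hc hcf hYc zT

/-- **THEOREM LAMBDA, `q ≥ 4`, over a frame.** -/
theorem low_free {c : G} (fr : FrL B Q V X₀ ZJ L W Z C A q) (hq : 4 ≤ q) (hT : Syl T Y) (hP : IsMinPar T Y)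
    (hch : Y ⊓ centralizer (o2 Y : Set G) ≤ o2 Y) (hB : B ≤ T) (TQ : T ≤ normalizer (Q : Set G))
    (hel : IsElementaryAbelian 2 U) (hUn : Y ≤ normalizer (U : Set G)) (hVU : V ≤ U) (hUT : U ≤ T)
    (cX : ∀ x ∈ U, (∀ y ∈ Q, y * x = x * y) → x ∈ V) (zT : zc T ≤ ZJ) (hAB : ∀ A ≤ T, Best U A → A ≤ B) (hc : c ∈ ZJ)
    (hcf : ∀ i, c ∉ C i) (hYc : Y ≤ centralizer ({c} : Set G)) (hoff : ∃ A, A ≤ T ∧ Best U A ∧ ¬ A ≤ o2 Y) :
    Y ≤ centralizer (zc T : Set G) := by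
  by_contra hZ
  obtain ⟨ge, con, ex⟩ := exists_ge hT hP hch hZ hel hUn (zT.trans fun x hx => hVU (fr.ZJV hx)) hoff
  exact hZ (low_ge fr hq ⟨ge, hB, hVU, fun A hA => hAB A hA.1 { toElemM := hA.2.1, max := fun B h1 h2 => hA.2.2 B h2 h1 },
    TQ, cX⟩ hUT con ex hc hcf (fun y hy => mem_centralizer_singleton_iff.1 (hYc hy)) zT)

end free

end Cfsg.Agent.Omega.NO3S.CaseLW.LamQ
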