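import Cfsg.Agent.Omega.NO3S.CaseLW.LamEnd
import Cfsg.Agent.Omega.NO3S.CaseLW.LamQ.Def
import Cfsg.Agent.Omega.NO3S.CaseLW.QWoFr
import Cfsg.Agent.Omega.Node.OmTopQM

/-!
# THEOREM LAMBDA for `q ≥ 4` (helper417 #24622): the frame side

* `exists_full_fix` : `FrL`, a 2-group `R` permuting the `Z i`: some `z ∈ Z_J` of full support is centralised by `R`;
* `exists_full_S` : over `MulL` some `c ∈ Z_J ∩ Ω₁Z(S)` has full support;
* `InQ` : the input of `LamQ/Main.lean` : `Y ≤ C_G(c)`, best offenders of `T ≥ B` on `U = ⟨V_P^Y⟩` outside `O₂(Y)`;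
* `inQ_of` : it holds for the weird parabolics `Y` of `WY`; **`lamHQ_of`** : `LamHQ` if there is no `InQ`.
-/

set_option autoImplicit false
set_option linter.unusedSectionVars false

namespace Cfsg.Agent.Omega.NO3S.CaseLW.LamQ

open Subgroup Cfsg Cfsg.Agent.ZN.ChoiceBase Cfsg.Agent.ZN.ChoiceSit
open Cfsg.Agent.ZN (jj zj bau zc zl o2)
open Cfsg.Agent.MinSimple.MinParabolic (IsMinPar)
open Cfsg.Agent.Omega.OM.GLev
open Cfsg.Agent.Omega.OM.Lev.Low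
open Cfsg.Agent.Omega.OM.Lev.Uni (FrL)
open Cfsg.Agent.Omega.NO1.BestOff (Best)
open Cfsg.Agent.Omega.NO3S.Level
open Cfsg.Agent.Omega.NO3S.OneLine (bo bo_fam elemM_mono)
open Cfsg.Agent.Omega.NO3S.WY (WY)
open Cfsg.Agent.Omega.FFThm (NatKM SymKM OffM)
open Cfsg.Agent.Omega.FrameFF (cv)
open Cfsg.Agent.Omega.Frame (Cls)
open Cfsg.Agent.Omega.OM.SwapK (VF elab_VF V_le_VF VF_le_lim norm_lim_of best_of_le wl_caseL WL)
open Cfsg.Agent.Omega.OM.SwapT (ZT BT)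
open Cfsg.Agent.Omega.OM.SwapT.QuietL (OffW)
open Cfsg.Agent.Omega.Node.MulX (MulL)
open Cfsg.Agent.Omega.SQ1.Bau (elem_comm elem_sq)
open Cfsg.Agent.Omega.NO3S.CaseLW.QWoFr (exists_fix Z_C Z_inj supp_cj two_dvd)

universe u

variable {G : Type u} [Group G] [Finite G]

section full

variable {ι : Type*} [Finite ι] {B Q V X ZJ : Subgroup G} {L W Z C A : ι → Subgroup G} {q : ℕ}

/-- an element of full support centralised by a 2-group which permutes the `Z i` -/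
theorem exists_full_fix (h : FrL B Q V X ZJ L W Z C A q) {R : Subgroup G} (hR : IsPGroup 2 R)
    (hp : ∀ s ∈ R, ∀ i, ∃ j, cj s (Z i) = Z j) :
    ∃ z ∈ ZJ, (∀ i, z ∉ C i) ∧ ∀ s ∈ R, s * z = z * s := by
  classical
  cases nonempty_fintype ι
  set 𝒞 : Set (Finset ι) := {s | ∃ z ∈ ZJ, (∀ g ∈ R, g * z = z * g) ∧ ∀ i ∈ s, z ∉ C i} with h𝒞
  have hne : 𝒞.Nonempty := ⟨∅, 1, one_mem _, fun g _ => by simp, fun i hi => absurd hi (Finset.notMem_empty i)⟩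
  obtain ⟨s, ⟨z, hz, hzR, hzs⟩, hmax⟩ := Set.exists_max_image 𝒞 Finset.card (Set.toFinite _) hne
  refine ⟨z, hz, fun i₀ hi₀ => ?_, hzR⟩
  set N : Subgroup G := ⨆ g : R, cj (g : G) (Z i₀) with hN
  have hNZ : N ≤ ZJ := iSup_le fun g => by
    obtain ⟨j, e⟩ := hp g g.2 i₀
    rw [e]
    exact h.Z_le j
  have hcjN : ∀ u ∈ R, ∀ n ∈ N, u * n * u⁻¹ ∈ N := by
    intro u hu
    have h1 : N ≤ N.comap (MulAut.conj u).toMonoidHom := iSup_le fun g x hx => by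
      rw [mem_comap]
      change u * x * u⁻¹ ∈ N
      rw [mem_cj] at hx
      refine (le_iSup (fun g : R => cj (g : G) (Z i₀)) ⟨u * g, mul_mem hu g.2⟩ : _) ?_
      rw [mem_cj]
      have e : (u * (g : G))⁻¹ * (u * x * u⁻¹) * (u * (g : G)) = (g : G)⁻¹ * x * g := by group
      rw [e]
      exact hx
    exact fun n hn => h1 hn
  have hle : Z i₀ ≤ N := fun x hx => (le_iSup (fun g : R => cj (g : G) (Z i₀)) 1 : _) (by
    rw [mem_cj]
    simpa using hx)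
  have hdvd : 2 ∣ Nat.card N := (two_dvd h i₀).trans (Subgroup.card_dvd_of_le hle)
  obtain ⟨x, hxN, hx1, hxR⟩ := exists_fix hR hcjN hdvd
  have hxZ : x ∈ ZJ := hNZ hxN
  have hNC : ∀ i, (∀ g ∈ R, cj g (Z i₀) ≠ Z i) → N ≤ C i := by
    intro i hi
    refine iSup_le fun g => ?_
    obtain ⟨m, e⟩ := hp g g.2 i₀
    rw [e]
    exact Z_C h fun e' => hi g g.2 (by rw [e, e'])
  have hzO : ∀ i, (∃ g ∈ R, cj g (Z i₀) = Z i) → z ∈ C i := by
    rintro i ⟨g, hg, e⟩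
    have h1 := supp_cj h (hp g hg) e hz hi₀
    have h2 : g * z * g⁻¹ = z := by rw [hzR g hg]; group
    rwa [h2] at h1
  have hx₀ : x ∉ C i₀ := by
    intro h1
    apply hx1
    refine h.C0 x (h.ZJV hxZ) fun i => ?_
    by_cases hi : ∃ g ∈ R, cj g (Z i₀) = Z i
    · obtain ⟨g, hg, e⟩ := hi
      have h2 := supp_cj h (hp g hg) e hxZ h1
      rwa [hxR g hg] at h2
    · push Not at hi
      exact hNC i hi hxN
  have hi₀s : i₀ ∉ s := fun h1 => hzs i₀ h1 hi₀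
  have hmem : insert i₀ s ∈ 𝒞 := by
    refine ⟨z * x, mul_mem hz hxZ, fun g hg => ?_, fun i hi => ?_⟩
    · have h1 : g * x = x * g := by
        have := hxR g hg
        exact mul_inv_eq_iff_eq_mul.1 this
      calc g * (z * x) = (g * z) * x := by group
        _ = z * (g * x) := by rw [hzR g hg]; group
        _ = z * x * g := by rw [h1]; group
    · rcases Finset.mem_insert.1 hi with rfl | hi
      · rw [mul_mem_cancel_left hi₀]
        exact hx₀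
      · have h1 : x ∈ C i := hNC i (fun g hg e => hzs i hi (hzO i ⟨g, hg, e⟩)) hxN
        rw [mul_mem_cancel_right h1]
        exact hzs i hi
  have h1 := hmax _ hmem
  rw [Finset.card_insert_of_notMem hi₀s] at h1
  omega

end full

variable {S : Sylow 2 G} {P B ZJ : Subgroup G} {k : ℕ} {L W Z C A : Fin k → Subgroup G} {q : ℕ} {T Y : Subgroup G}

theorem norm_S (h : MulL S P B ZJ L W Z C A q) : (S : Subgroup G) ≤ normalizer (B : Set G) := by
  rw [h.eB, h.eZ]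
  exact (OM.SwapT.lb h.cl.wc).two_le S.isPGroup' (OM.SwapT.lb h.cl.wc).BS

/-- an element of full support in `Ω₁Z(S)` -/
theorem exists_full_S (h : MulL S P B ZJ L W Z C A q) :
    ∃ c ∈ ZJ, (∀ i, c ∉ C i) ∧ c ∈ zc (S : Subgroup G) := by
  obtain ⟨c, hc, hcf, hcS⟩ := exists_full_fix h.fr (R := (S : Subgroup G)) S.isPGroup' fun s hs i => by
    obtain ⟨j, hj, -⟩ := (h.fr.norm_of (norm_S h hs) (h.norm_le (norm_S h hs))).2 i
    exact ⟨j, hj⟩
  have hcB : c ∈ B := h.fr.QB (h.fr.VQ (h.fr.ZJV hc))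
  have hBS : B ≤ (S : Subgroup G) := h.eB.trans_le inf_le_left
  exact ⟨c, hc, hcf, mem_zc.2 ⟨hBS hcB, elem_sq h.fr.elX c (h.fr.VX (h.fr.ZJV hc)), fun s hs => hcS s hs⟩⟩

/-- **The input of `LamQ/Main.lean`.** -/
structure InQ (S : Sylow 2 G) (P B ZJ : Subgroup G) {k : ℕ} (L W Z C A : Fin k → Subgroup G) (q : ℕ)
    (T Y U : Subgroup G) (AA : Set (Subgroup G)) (c : G) : Prop where
  four : 4 ≤ q
  fr : FrL B (o2 P) (zl (S : Subgroup G) P) (zl (S : Subgroup G) P) ZJ L W Z C A q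
  ge : GE T Y U AA
  con : FFThm.ConclM T Y
  ex : ∃ A ∈ AA, ¬ A ≤ o2 Y
  mv : ¬ Y ≤ centralizer (zc T : Set G)
  BT : B ≤ T
  VU : zl (S : Subgroup G) P ≤ U
  UT : U ≤ T
  AB : ∀ A ∈ AA, A ≤ B
  zT : zc T ≤ ZJ
  TQ : T ≤ normalizer (o2 P : Set G)
  cX : ∀ x ∈ U, (∀ y ∈ o2 P, y * x = x * y) → x ∈ zl (S : Subgroup G) P
  cZ : c ∈ ZJ
  cC : ∀ i, c ∉ C i
  cY : ∀ y ∈ Y, y * c = c * y

/-- **The input holds.** -/
theorem inQ_of (h : MulL S P B ZJ L W Z C A q) (hq : 4 ≤ q) {c : G} (hc : c ∈ ZJ) (hcf : ∀ i, c ∉ C i)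
    (hT : Syl T Y) (hB : B ≤ T) (hP : IsMinPar T Y) (hYc : Y ≤ centralizer ({c} : Set G))
    (hch : Y ⊓ centralizer (o2 Y : Set G) ≤ o2 Y) (hZ : ¬ Y ≤ centralizer (zc T : Set G))
    (hl : lim (S : Subgroup G) ≤ o2 Y) (hoff : ∃ A, A ≤ T ∧ Best (VF S P Y) A ∧ ¬ A ≤ o2 Y) :
    InQ S P B ZJ L W Z C A q T Y (VF S P Y) (bo T (VF S P Y)) c := by
  have hcl := h.cl
  have eB : B = OM.SwapT.BT (S : Subgroup G) (o2 P) := by rw [h.eB, h.eZ]; rfl
  have eZ : ZJ = ZT (S : Subgroup G) (o2 P) := h.eZ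
  have hB' : OM.SwapT.BT (S : Subgroup G) (o2 P) ≤ T := eB ▸ hB
  set U := VF S P Y with hU
  have hFN := norm_lim_of S hl
  have hel : IsElementaryAbelian 2 U := elab_VF hcl hcl.lim_le hFN
  have hUlim : U ≤ zc (lim (S : Subgroup G)) := VF_le_lim hcl hcl.lim_le hFN
  have hVU : zl (S : Subgroup G) P ≤ U := V_le_VF
  have hUn : Y ≤ normalizer (U : Set G) := OmThm.XD.X_le_normalizer_W
  have hzT : zc T ≤ ZJ := (Lam.zc_T_le hcl hT.2.1 hB').trans eZ.ge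
  have hJU : ZJ ≤ U := (fun x hx => hVU (h.fr.ZJV hx))
  have hzU : zl T Y ≤ U := ZN.zl_le (hzT.trans hJU) hUn
  have hQC := OM.BlkGen.inf_cent hT hP hZ
  obtain ⟨A₁, hA₁T, hb₁, hA₁O⟩ := hoff
  have hA₁ : A₁ ∈ bo T U := ⟨hA₁T, hb₁.toElemM, fun B h1 h2 => hb₁.max B h2 h1⟩
  have hoffM : OffM (zl T Y) A₁ :=
    { toElemM := elemM_mono hb₁.toElemM hzU le_rfl
      ne := fun h1 => hA₁O ((le_inf hA₁T h1).trans hQC)
      le := (bo_fam T U).off (elem_comm hel) hzU hA₁ }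
  obtain ⟨hno, hcon⟩ := FF.Glob.ffthmM G T Y hT hP hch ⟨A₁, hA₁T.trans hT.1, hoffM⟩
  have ge : GE T Y U (bo T U) :=
    { hm := SQ1.FFOne.minH_of hT hP hch
      fam := bo_fam T U
      elem := hel
      norm := hUn
      VX := hzU
      QC := hQC
      noOver := hno }
  have hAB : ∀ A ∈ bo T U, A ≤ B := by
    intro A hA
    have hb : Best U A := { toElemM := hA.2.1, max := fun B h1 h2 => hA.2.2 B h2 h1 }
    have hb' : Best (zc (o2 P)) A := best_of_le (elem_comm hel) hb (hcl.zc_eq.trans_le hVU)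
    rw [eB]
    exact ((wl_caseL hcl).le_nxt_of_best hT.2.1 ((wl_caseL hcl).lb.KB.trans hB') hA.1 hb').trans (wl_caseL hcl).lb.KB
  have hUT : U ≤ T :=
    (((hUlim.trans (zc_le _)).trans hcl.lim_le).trans (OM.SwapT.K_le hcl.wc)).trans hB'
  exact
    { four := hq
      fr := h.fr
      ge := ge
      con := hcon
      ex := ⟨A₁, hA₁, hA₁O⟩
      mv := hZ
      BT := hB
      VU := hVU
      UT := hUT
      AB := hAB
      zT := hzT
      TQ := Lam.T_norm hcl hT.2.1 hB'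
      cX := fun x hx hxQ => h.fr.zcQ x (hcl.lim_le (zc_le _ (hUlim hx))) (mem_zc.1 (hUlim hx)).2.1
        fun y hy => (hxQ y hy).symm
      cZ := hc
      cC := hcf
      cY := fun y hy => mem_centralizer_singleton_iff.1 (hYc hy) }

/-- no weird parabolic of `WY` inside `C_G(Ω₁Z(S))` has a best offender on `⟨V_P^Y⟩` outside `O₂(Y)` -/
theorem false_of_wy (h : MulL S P B ZJ L W Z C A q) (hq : 4 ≤ q)
    (hno : ∀ (U : Subgroup G) (AA : Set (Subgroup G)) (c : G), ¬ InQ S P B ZJ L W Z C A q T Y U AA c)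
    (hw : WY S P T Y) (hB : OM.SwapT.BT (S : Subgroup G) (o2 P) ≤ T) (hl : lim (S : Subgroup G) ≤ o2 Y)
    (hYZ : Y ≤ centralizer (zc (S : Subgroup G) : Set G))
    (hoff : ∃ A, A ≤ T ∧ Best (VF S P Y) A ∧ ¬ A ≤ o2 Y) : False := by
  obtain ⟨c, hc, hcf, hcS⟩ := exists_full_S h
  refine hno _ _ _ (inQ_of h hq hc hcf hw.syl ?_ hw.min
    (hYZ.trans (centralizer_le (Set.singleton_subset_iff.2 hcS))) hw.c2 hw.mv hl hoff)
  rw [h.eB, h.eZ]
  exact hB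

/-- **`LamHQ`** -/
theorem lamHQ_of (hno : ∀ (G : Type u) [Group G] [Finite G] (S : Sylow 2 G) (P B ZJ : Subgroup G) (k : ℕ)
    (L W Z C A : Fin k → Subgroup G) (q : ℕ) (T Y U : Subgroup G) (AA : Set (Subgroup G)) (c : G),
      ¬ InQ S P B ZJ L W Z C A q T Y U AA c) (K : Cls.{u}) : Node.OmTopQ.LamHQ K := by
  intro G _ _ _ S P B ZJ k L W Z C A q _ hq h M _ _ _ _ ho T Y hw hB hl hYZ
  by_contra hM
  exact false_of_wy h hq (fun U AA c => hno G S P B ZJ k L W Z C A q T Y U AA c) hw hB hl hYZ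
    (ho T Y hw.toWQ hB hl hYZ hM)

end Cfsg.Agent.Omega.NO3S.CaseLW.LamQ
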